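import Groth.Agent.H7Lim.Nagata.Curve
import Groth.Agent.H11Val.Criteria
import Groth.Agent.H18HTop.SpecLiftDVR
import Groth.Agent.H17.Reduced
import Mathlib.AlgebraicGeometry.SpreadingOut
import Mathlib.RingTheory.DiscreteValuationRing.TFAE

/-!
# Valuative criteria with curves over a Nagata base
-/

set_option autoImplicit false
set_option backward.isDefEq.respectTransparency false
set_option linter.style.haveILetI false
set_option linter.unusedSectionVars false

universe u

open AlgebraicGeometry CategoryTheory CategoryTheory.Limits TopologicalSpace IsLocalRing Topology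

namespace Groth.Agent.H7Lim.Nagata

/-- At every point the set or its complement contains a neighbourhood of the point in its closure. -/
def GenOpen {X : Type*} [TopologicalSpace X] (E : Set X) : Prop :=
  ∀ y, ∃ G : Set X, IsOpen G ∧ y ∈ G ∧
    ∀ z ∈ G, y ⤳ z → (z ∈ E ↔ y ∈ E)

theorem genOpen_of_isOpen {X : Type*} [TopologicalSpace X] {U : Set X} (hU : IsOpen U) : GenOpen U := by
  intro y
  by_cases hy : y ∈ U
  · exact ⟨U, hU, hy, fun z hz _ => iff_of_true hz hy⟩
  · exact ⟨Set.univ, isOpen_univ, trivial, fun z _ h => iff_of_false (fun hz => hy (h.mem_open hU hz)) hy⟩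

theorem GenOpen.compl {X : Type*} [TopologicalSpace X] {E : Set X} (h : GenOpen E) : GenOpen Eᶜ := fun y =>
  let ⟨G, hG, hy, hGE⟩ := h y
  ⟨G, hG, hy, fun z hz hyz => not_congr (hGE z hz hyz)⟩

theorem GenOpen.union {X : Type*} [TopologicalSpace X] {E F : Set X} (h : GenOpen E) (h' : GenOpen F) :
    GenOpen (E ∪ F) := fun y =>
  let ⟨G, hG, hy, hGE⟩ := h y
  let ⟨G', hG', hy', hGE'⟩ := h' y
  ⟨G ∩ G', hG.inter hG', ⟨hy, hy'⟩, fun z hz hyz => or_congr (hGE z hz.1 hyz) (hGE' z hz.2 hyz)⟩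

theorem genOpen_of_isConstructible {X : Type*} [TopologicalSpace X] {E : Set X} (hE : IsConstructible E) :
    GenOpen E := by
  induction hE using IsConstructible.empty_union_induction with
  | open_retrocompact U hU _ => exact genOpen_of_isOpen hU
  | union s hs t ht hs' ht' => exact hs'.union ht'
  | compl s hs hs' => exact hs'.compl

theorem genOpen_of_isLocallyConstructible {X : Type*} [TopologicalSpace X] {E : Set X}
    (hE : IsLocallyConstructible E) : GenOpen E := fun y => by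
  obtain ⟨U, hU, hUo, hc⟩ := hE y
  obtain ⟨G, hG, hyG, hGE⟩ := genOpen_of_isConstructible hc ⟨y, mem_of_mem_nhds hU⟩
  refine ⟨Subtype.val '' G, hUo.isOpenMap_subtype_val G hG, ⟨_, hyG, rfl⟩, ?_⟩
  rintro _ ⟨z, hz, rfl⟩ hyz
  exact hGE z hz (IsEmbedding.subtypeVal.specializes_iff.1 hyz)

/-- An immediate specialization leaving a set. -/
theorem exists_immediate {Z : Scheme.{u}} [IsLocallyNoetherian Z] {E : Set Z} (hE : GenOpen E)
    {w z : Z} (hw : w ∈ E) (hwz : w ⤳ z) (hz : z ∉ E) :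
    ∃ q m : Z, w ⤳ q ∧ q ⤳ m ∧ q ∈ E ∧ m ∉ E ∧ IsLocallyClosed ({m} : Set Z) ∧
      ∀ y : Z, q ⤳ y → y ⤳ m → y = q ∨ y = m := by
  obtain ⟨G, hG, hzG, hGE⟩ := hE z
  obtain ⟨m, ⟨hmG, hmz⟩, hmlc⟩ := H05EGA4.exists_singleton_locallyClosed_of_inter Z hG
    (isClosed_closure (s := ({z} : Set Z))) ⟨z, hzG, subset_closure rfl⟩
  have hzm : z ⤳ m := specializes_iff_mem_closure.2 hmz
  have hmE : m ∉ E := fun h => hz ((hGE m hmG hzm).1 h)
  let A := Z.presheaf.stalk m
  haveI : IsNoetherianRing A := inferInstance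
  have emb : IsEmbedding (Z.fromSpecStalk m) := (Z.fromSpecStalk m).isEmbedding
  have hpre : ∀ y : Z, y ⤳ m → ∃ p : Spec A, Z.fromSpecStalk m p = y := fun y hy =>
    (Scheme.range_fromSpecStalk (X := Z) (x := m)).ge hy
  obtain ⟨pw, hpw⟩ := hpre w (hwz.trans hzm)
  let T : Set (Ideal A) := (fun p : Spec A => p.asIdeal) '' {p | w ⤳ Z.fromSpecStalk m p ∧ Z.fromSpecStalk m p ∈ E}
  obtain ⟨_, ⟨pq, ⟨hwq, hqE⟩, rfl⟩, hmax⟩ :=
    set_has_maximal_iff_noetherian.mpr (inferInstance : IsNoetherian A A) T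
      ⟨_, ⟨pw, ⟨by rw [hpw], by rwa [hpw]⟩, rfl⟩⟩
  have hqm : Z.fromSpecStalk m pq ⤳ m := (Scheme.range_fromSpecStalk (X := Z) (x := m)).le ⟨pq, rfl⟩
  refine ⟨_, m, hwq, hqm, hqE, hmE, hmlc, fun y hqy hym => ?_⟩
  obtain ⟨py, hpy⟩ := hpre y hym
  by_cases hy : y = Z.fromSpecStalk m pq
  · exact Or.inl hy
  right
  obtain ⟨G', hG', hqG', hGE'⟩ := hE (Z.fromSpecStalk m pq)
  have hlc : IsLocallyClosed ({pq} : Set (PrimeSpectrum A)) := by
    refine ⟨Z.fromSpecStalk m ⁻¹' G', closure {pq}, hG'.preimage (Z.fromSpecStalk m).continuous,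
      isClosed_closure, Set.Subset.antisymm (Set.singleton_subset_iff.2 ⟨hqG', subset_closure rfl⟩) ?_⟩
    rintro p ⟨hpG, hp⟩
    have hqp : pq ⤳ p := specializes_iff_mem_closure.2 hp
    have hqp' := hqp.map (Z.fromSpecStalk m).continuous
    have hle : pq.asIdeal ≤ p.asIdeal := (PrimeSpectrum.le_iff_specializes pq p).2 hqp
    have hnlt := hmax p.asIdeal ⟨p, ⟨hwq.trans hqp', (hGE' _ hpG hqp').2 hqE⟩, rfl⟩
    exact (PrimeSpectrum.ext (eq_of_le_of_not_lt hle hnlt)).symm
  obtain ⟨pm, hpm⟩ := hpre m specializes_rfl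
  have h := H05EGA4.spec_eq_of_locallyClosed (A := A) hlc
    (emb.specializes_iff.1 (by rw [hpy]; exact hqy)) (fun e => hy (by rw [← hpy, e]))
    (c := pm) (emb.specializes_iff.1 (by rw [hpy, hpm]; exact hym))
  rw [← hpy, h, hpm]

variable {S : Scheme.{u}} (hS : ∀ W : S.affineOpens, CAlg.IsNagata Γ(S, W))

include hS

theorem isLocallyNoetherian_of_lft {Z : Scheme.{u}} (r : Z ⟶ S) [LocallyOfFiniteType r] :
    IsLocallyNoetherian Z :=
  haveI := H17.NagataNorm.isLocallyNoetherian_of_nagata S hS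
  LocallyOfFiniteType.isLocallyNoetherian r

/-- A locally closed point is closed in some Nagata affine open. -/
theorem exists_nagata_affine {Z : Scheme.{u}} (r : Z ⟶ S) [LocallyOfFiniteType r] {m : Z}
    (hm : IsLocallyClosed ({m} : Set Z)) :
    ∃ V : Z.Opens, IsAffineOpen V ∧ m ∈ V ∧ CAlg.IsNagata Γ(Z, V) ∧ ∀ z ∈ V, m ⤳ z → z = m := by
  obtain ⟨U, C, hU, hC, e⟩ := hm
  have hm' : m ∈ U ∩ C := e ▸ rfl
  obtain ⟨_, ⟨W, hW, rfl⟩, hmW, -⟩ :=
    S.isBasis_affineOpens.exists_subset_of_mem_open (Set.mem_univ (r m)) isOpen_univ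
  obtain ⟨_, ⟨V, hV, rfl⟩, hmV, hVU⟩ :=
    Z.isBasis_affineOpens.exists_subset_of_mem_open (show m ∈ U ∩ (r ⁻¹ᵁ W : Set Z) from ⟨hm'.1, hmW⟩)
      (hU.inter (r ⁻¹ᵁ W).2)
  refine ⟨V, hV, hmV, ?_, fun z hz h => ?_⟩
  · have hle : V ≤ r ⁻¹ᵁ W := fun x hx => (hVU hx).2
    have hft : (r.appLE W V hle).hom.FiniteType :=
      HasRingHomProperty.appLE (P := @LocallyOfFiniteType) r inferInstance ⟨W, hW⟩ ⟨V, hV⟩ hle
    letI := (r.appLE W V hle).hom.toAlgebra
    haveI : Algebra.FiniteType Γ(S, W) Γ(Z, V) := hft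
    exact Groth.Agent.S0566.result Γ(S, W) (hS ⟨W, hW⟩) Γ(Z, V)
  · have : z ∈ ({m} : Set Z) := by rw [e]; exact ⟨(hVU hz).1, h.mem_closed hC hm'.2⟩
    exact this

theorem isDiscreteValuationRing_stalk {C : Scheme.{u}} (r : C ⟶ S) [IsIntegral C] [LocallyOfFiniteType r]
    (c : C) (hn : IsIntegrallyClosed (C.presheaf.stalk c)) (hd : ringKrullDim (C.presheaf.stalk c) = 1) :
    IsDiscreteValuationRing (C.presheaf.stalk c) := by
  haveI := isLocallyNoetherian_of_lft hS r
  haveI := hn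
  have hnf : ¬ IsField (C.presheaf.stalk c) := fun h => by
    rw [ringKrullDim_eq_zero_of_isField h] at hd
    exact zero_ne_one hd
  have h5 := (IsDiscreteValuationRing.TFAE (C.presheaf.stalk c) hnf).out 0 3
  refine h5.2 ⟨inferInstance, ?_⟩
  have hmax : maximalIdeal (C.presheaf.stalk c) ≠ ⊥ := fun h => hnf (IsLocalRing.isField_iff_maximalIdeal_eq.2 h)
  refine ⟨maximalIdeal _, ⟨hmax, inferInstance⟩, fun P ⟨hP0, hP⟩ => ?_⟩
  haveI : Ring.KrullDimLE 1 (C.presheaf.stalk c) := Ring.krullDimLE_iff.2 hd.le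
  exact IsLocalRing.eq_maximalIdeal (Ideal.IsPrime.isMaximal_of_ne_bot hP hP0)

omit hS in
/-- The punctured curve receives the generic point of the local ring. -/
theorem exists_lift_punctured {C : Scheme.{u}} [IsIntegral C] (c : C)
    (hd : ringKrullDim (C.presheaf.stalk c) = 1) (U : C.Opens) (hU : (U : Set C) = {c}ᶜ) :
    ∃ k : Spec (CommRingCat.of (FractionRing (C.presheaf.stalk c))) ⟶ (U : Scheme.{u}),
      k ≫ U.ι = Spec.map (CommRingCat.ofHom (algebraMap (C.presheaf.stalk c)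
        (FractionRing (C.presheaf.stalk c)))) ≫ C.fromSpecStalk c ∧ ∀ x, U.ι (k x) = genericPoint C := by
  let A := C.presheaf.stalk c
  let g : Spec (CommRingCat.of (FractionRing A)) ⟶ C :=
    Spec.map (CommRingCat.ofHom (algebraMap A (FractionRing A))) ≫ C.fromSpecStalk c
  have hbot : ∀ x, (Spec.map (CommRingCat.ofHom (algebraMap A (FractionRing A))) x).asIdeal = ⊥ := fun x => by
    show x.asIdeal.comap (algebraMap A (FractionRing A)) = ⊥
    rw [Ideal.eq_bot_of_prime x.asIdeal, ← RingHom.ker_eq_comap_bot,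
      (RingHom.injective_iff_ker_eq_bot _).1 (IsFractionRing.injective A (FractionRing A))]
  have hg : ∀ x, g x = genericPoint C := fun x => by
    obtain ⟨p, hp⟩ := (Scheme.range_fromSpecStalk (X := C) (x := c)).ge (genericPoint_specializes c)
    have hle : (Spec.map (CommRingCat.ofHom (algebraMap A (FractionRing A))) x).asIdeal ≤ p.asIdeal := by
      rw [hbot]; exact bot_le
    have hsp : Spec.map (CommRingCat.ofHom (algebraMap A (FractionRing A))) x ⤳ p :=
      (PrimeSpectrum.le_iff_specializes _ p).1 hle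
    have hgx : g x = C.fromSpecStalk c (Spec.map (CommRingCat.ofHom (algebraMap A (FractionRing A))) x) :=
      Scheme.Hom.comp_apply _ _ x
    have h1 := hsp.map (C.fromSpecStalk c).continuous
    rw [hp, ← hgx] at h1
    exact (h1.antisymm (genericPoint_specializes _)).eq
  have hne : genericPoint C ≠ c := fun e => by
    have h0 : ringKrullDim (C.presheaf.stalk (genericPoint C)) = 0 :=
      ringKrullDim_eq_zero_of_isField (F := C.functionField) (Field.toIsField C.functionField)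
    have hcongr : ∀ a b : C, a = b → ringKrullDim (C.presheaf.stalk a) = ringKrullDim (C.presheaf.stalk b) := by
      rintro a _ rfl; rfl
    rw [← hcongr _ _ e, h0] at hd
    exact zero_ne_one hd
  have hr : Set.range g ⊆ Set.range U.ι := by
    rintro _ ⟨x, rfl⟩
    rw [Scheme.Opens.range_ι, hU, hg]
    exact hne
  have hfac : IsOpenImmersion.lift U.ι g hr ≫ U.ι = g := IsOpenImmersion.lift_fac U.ι g hr
  generalize IsOpenImmersion.lift U.ι g hr = k at hfac
  refine ⟨k, hfac, fun x => ?_⟩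
  have h2 := congr($hfac x)
  rw [Scheme.Hom.comp_apply] at h2
  exact h2.trans (hg x)

variable {X Y : Scheme.{u}} (p : X ⟶ S) (q : Y ⟶ S) [LocallyOfFiniteType p] [LocallyOfFiniteType q]
  (f : X ⟶ Y) (hf : f ≫ q = p)

omit hS in
/-- Uniqueness of the lifts along curves. -/
def CurveUniqueness : Prop :=
  ∀ (C : Scheme.{u}) (r : C ⟶ S) [IsIntegral C] [LocallyOfFiniteType r] [QuasiCompact r],
    (∀ x : C, IsIntegrallyClosed (C.presheaf.stalk x)) →
    ∀ (c : C), IsClosed ({c} : Set C) → ringKrullDim (C.presheaf.stalk c) = 1 →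
    ∀ (U : C.Opens), (U : Set C) = {c}ᶜ →
    ∀ (u : (U : Scheme.{u}) ⟶ X) (g : C ⟶ Y), g ≫ q = r → u ≫ f = U.ι ≫ g →
    ∀ (k : Spec (CommRingCat.of (FractionRing (C.presheaf.stalk c))) ⟶ (U : Scheme.{u})),
      k ≫ U.ι = Spec.map (CommRingCat.ofHom (algebraMap (C.presheaf.stalk c)
        (FractionRing (C.presheaf.stalk c)))) ≫ C.fromSpecStalk c →
    ∀ l l' : Spec (C.presheaf.stalk c) ⟶ X,
      l ≫ f = C.fromSpecStalk c ≫ g →
      Spec.map (CommRingCat.ofHom (algebraMap (C.presheaf.stalk c) (FractionRing (C.presheaf.stalk c)))) ≫ l =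
        k ≫ u →
      l' ≫ f = C.fromSpecStalk c ≫ g →
      Spec.map (CommRingCat.ofHom (algebraMap (C.presheaf.stalk c) (FractionRing (C.presheaf.stalk c)))) ≫ l' =
        k ≫ u → l = l'

omit hS in
/-- Existence of the lifts along curves. -/
def CurveExistence : Prop :=
  ∀ (C : Scheme.{u}) (r : C ⟶ S) [IsIntegral C] [LocallyOfFiniteType r] [QuasiCompact r],
    (∀ x : C, IsIntegrallyClosed (C.presheaf.stalk x)) →
    ∀ (c : C), IsClosed ({c} : Set C) → ringKrullDim (C.presheaf.stalk c) = 1 →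
    ∀ (U : C.Opens), (U : Set C) = {c}ᶜ →
    ∀ (u : (U : Scheme.{u}) ⟶ X) (g : C ⟶ Y), g ≫ q = r → u ≫ f = U.ι ≫ g →
    ∀ (k : Spec (CommRingCat.of (FractionRing (C.presheaf.stalk c))) ⟶ (U : Scheme.{u})),
      k ≫ U.ι = Spec.map (CommRingCat.ofHom (algebraMap (C.presheaf.stalk c)
        (FractionRing (C.presheaf.stalk c)))) ≫ C.fromSpecStalk c →
    ∃ l : Spec (C.presheaf.stalk c) ⟶ X, l ≫ f = C.fromSpecStalk c ≫ g ∧
      Spec.map (CommRingCat.ofHom (algebraMap (C.presheaf.stalk c) (FractionRing (C.presheaf.stalk c)))) ≫ l =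
        k ≫ u

theorem curveUniqueness_of_isSeparated [IsSeparated f] : CurveUniqueness q f := by
  intro C r _ _ _ hn c _ hd U _ u g _ _ k _ l l' hl hlk hl' hlk'
  haveI := isDiscreteValuationRing_stalk hS r c (hn c) hd
  exact H11Val.dvrUniqueness_of_isSeparated f (C.presheaf.stalk c) l l' (hl.trans hl'.symm)
    (hlk.trans hlk'.symm)

theorem curveExistence_of_universallyClosed [UniversallyClosed f] : CurveExistence q f := by
  intro C r _ _ _ hn c _ hd U _ u g _ hug k hk
  haveI := isDiscreteValuationRing_stalk hS r c (hn c) hd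
  exact H11Val.dvrExistence_of_universallyClosed f (C.presheaf.stalk c) (k ≫ u) (C.fromSpecStalk c ≫ g)
    (by rw [Category.assoc, hug, reassoc_of% hk])

include hf in
theorem isSeparated_of_curveUniqueness (H : CurveUniqueness q f) : IsSeparated f := by
  subst hf
  haveI := H17.NagataNorm.isLocallyNoetherian_of_nagata S hS
  haveI : LocallyOfFiniteType f := locallyOfFiniteType_of_comp f q
  haveI := isLocallyNoetherian_of_lft hS (f ≫ q)
  let rZ := pullback.fst f f ≫ f ≫ q
  haveI : LocallyOfFiniteType rZ := inferInstanceAs (LocallyOfFiniteType (pullback.fst f f ≫ f ≫ q))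
  haveI := isLocallyNoetherian_of_lft hS rZ
  let Δ := pullback.diagonal f
  suffices hcl : IsClosed (Set.range Δ) from ⟨.of_isPreimmersion _ hcl⟩
  let E := Set.range Δ
  let O : Set ↑(pullback f f) := (Δ.coborderRange : Set _)
  have hE : GenOpen E := by
    have he : E = O ∩ closure E := by
      show _ = coborder E ∩ closure E
      rw [Set.inter_comm, Δ.isLocallyClosed_range.isOpen_coborder |> fun _ => closure_inter_coborder]
    rw [he]
    have h1 : GenOpen O := genOpen_of_isOpen Δ.coborderRange.2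
    have h2 : GenOpen (closure E)ᶜ := genOpen_of_isOpen isClosed_closure.isOpen_compl
    simpa [Set.compl_union] using (h1.compl.union h2).compl
  by_contra hne
  obtain ⟨z, hz, hzE⟩ : ∃ z ∈ closure E, z ∉ E := by
    by_contra h
    push Not at h
    exact hne (isClosed_of_closure_subset h)
  obtain ⟨x₀, hx₀⟩ := H17.exists_specializes_of_mem_closure_range Δ hz
  obtain ⟨ζ, m, hwq, hqm, hζE, hmE, hmlc, himm⟩ := exists_immediate hE (Set.mem_range_self x₀) hx₀ hzE
  obtain ⟨V, hV, hmV, hN, hmmax⟩ := exists_nagata_affine hS rZ hmlc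
  have hmO : m ∉ O := fun h => hmE (by
    have hm' : m ∈ O ∩ closure E := ⟨h, hqm.mem_closed isClosed_closure (subset_closure hζE)⟩
    rwa [show O = coborder E from rfl, Set.inter_comm, closure_inter_coborder] at hm')
  obtain ⟨C, h, c, ε, hint, hnoe, hlft, hcpt, hnorm, hc, hd, hhc, hB, hεh, hεgen, hεiso⟩ :=
    exists_curve hV hN (hqm.mem_open V.2 hmV) hmV hqm (fun e => hmE (e ▸ hζE)) hmmax himm
      ((pullback f f).residueField ζ) (𝟙 _) (RingHom.Finite.id _) Oᶜ Δ.coborderRange.2.isClosed_compl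
      (fun h => h (subset_coborder hζE)) hmO
  let U : C.Opens := ⟨{c}ᶜ, hc.isOpen_compl⟩
  let η : C := ε (closedPoint _)
  have hη : h η = ζ := by
    show (ε ≫ h) (closedPoint _) = ζ
    rw [hεh, Scheme.Hom.comp_apply, Scheme.fromSpecResidueField_apply]
  haveI : IsReduced U.toScheme := isReduced_of_isOpenImmersion U.ι
  have hUO : ∀ y : U.toScheme, h (U.ι y) ∈ O := fun y => by
    by_contra hy
    have : U.ι y ∈ h ⁻¹' Oᶜ := hy
    rw [hB] at this
    exact y.2 this
  have hrange : Set.range (U.ι ≫ h) ⊆ Set.range Δ := by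
    rintro _ ⟨y, rfl⟩
    have h1 : h η ⤳ h (U.ι y) := ((hεgen.specializes trivial)).map h.continuous
    rw [hη] at h1
    have : h (U.ι y) ∈ O ∩ closure E :=
      ⟨hUO y, h1.mem_closed isClosed_closure (subset_closure hζE)⟩
    rw [show O = coborder E from rfl, Set.inter_comm, closure_inter_coborder] at this
    exact this
  obtain ⟨v, hv⟩ := H17.exists_lift_immersion_of_range_subset (U.ι ≫ h) Δ hrange
  obtain ⟨k, hk, -⟩ := exists_lift_punctured c hd U rfl
  haveI : LocallyOfFiniteType (h ≫ rZ) := inferInstance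
  have heq := H C (h ≫ rZ) hnorm c hc hd U rfl v (h ≫ pullback.fst f f ≫ f) (by simp [rZ]) (by
      rw [← Category.assoc U.ι h, ← hv]
      simp [Δ]) k hk (C.fromSpecStalk c ≫ h ≫ pullback.fst f f) (C.fromSpecStalk c ≫ h ≫ pullback.snd f f)
    (by simp) (by
      rw [← Category.assoc, ← hk, Category.assoc, ← Category.assoc U.ι h, ← hv]
      simp [Δ]) (by simp [pullback.condition]) (by
      rw [← Category.assoc, ← hk, Category.assoc, ← Category.assoc U.ι h, ← hv]
      simp [Δ])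
  apply hmE
  refine ⟨(C.fromSpecStalk c ≫ h ≫ pullback.fst f f) (closedPoint _), ?_⟩
  have hfac : (C.fromSpecStalk c ≫ h ≫ pullback.fst f f) ≫ Δ = C.fromSpecStalk c ≫ h := by
    apply pullback.hom_ext
    · simp [Δ]
    · rw [Category.assoc, pullback.diagonal_snd, Category.comp_id, Category.assoc, heq]
  rw [← Scheme.Hom.comp_apply, hfac, Scheme.Hom.comp_apply, Scheme.fromSpecStalk_closedPoint, hhc]

omit hS in
theorem CurveExistence.of_isPullback {P T : Scheme.{u}} {a : P ⟶ X} {b : P ⟶ T} {t : T ⟶ Y}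
    (sq : IsPullback a b f t) (h : CurveExistence q f) : CurveExistence (t ≫ q) b := by
  intro C r _ _ _ hn c hc hd U hU u g hgr hug k hk
  obtain ⟨l, hl, hlk⟩ := h C r hn c hc hd U hU (u ≫ a) (g ≫ t) (by rw [Category.assoc, hgr])
    (by rw [Category.assoc, sq.w, reassoc_of% hug]) k hk
  refine ⟨sq.lift l (C.fromSpecStalk c ≫ g) (by rw [hl, Category.assoc]), sq.lift_snd _ _ _,
    sq.hom_ext ?_ ?_⟩
  · rw [Category.assoc, sq.lift_fst, hlk, Category.assoc]
  · rw [Category.assoc, sq.lift_snd, Category.assoc, hug, reassoc_of% hk]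

include hf in
theorem specializingMap_of_curveExistence [QuasiCompact f] (H : CurveExistence q f) :
    topologically @SpecializingMap f := by
  subst hf
  haveI := H17.NagataNorm.isLocallyNoetherian_of_nagata S hS
  haveI : LocallyOfFiniteType f := locallyOfFiniteType_of_comp f q
  haveI := isLocallyNoetherian_of_lft hS (f ≫ q)
  haveI := isLocallyNoetherian_of_lft hS q
  intro x y' hsp
  by_contra hno
  obtain ⟨Zc, i, hi, -, hri⟩ : ∃ (Zc : Scheme.{u}) (i : Zc ⟶ X), IsClosedImmersion i ∧ True ∧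
      Set.range i = closure {x} := ⟨_, (Scheme.IdealSheafData.vanishingIdeal ⟨closure {x}, isClosed_closure⟩).subschemeι,
    inferInstance, trivial, H17.range_vanishingIdeal_subschemeι _⟩
  haveI := hi
  haveI : LocallyOfFiniteType (i ≫ f) := inferInstance
  haveI := H18HTop.locallyOfFinitePresentation_of_noetherian (i ≫ f)
  let E : Set Y := f '' closure {x}
  have hE : GenOpen E := by
    have he : E = (i ≫ f) '' Set.univ := by
      rw [Set.image_univ, Scheme.Hom.comp_base, TopCat.coe_comp, Set.range_comp, hri]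
    rw [he]
    exact genOpen_of_isLocallyConstructible ((i ≫ f).isLocallyConstructible_image .univ)
  have hy'E : y' ∉ E := by
    rintro ⟨x', hx', e⟩
    exact hno ⟨x', specializes_iff_mem_closure.2 hx', e⟩
  obtain ⟨ζ, m, hwq, hqm, ⟨x₁', hx₁', hfx₁'⟩, hmE, hmlc, himm⟩ :=
    exists_immediate hE (show f x ∈ E from ⟨x, subset_closure rfl, rfl⟩) hsp hy'E
  -- a closed point of the fibre
  let F := f.fiber ζ
  haveI : CompactSpace F := isCompact_iff_compactSpace.mp (f.isCompact_preimage_singleton ζ) |> fun _ =>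
    QuasiCompact.compactSpace_of_compactSpace (f.fiberToSpecResidueField ζ)
  have hFc : IsClosed (f.fiberι ζ ⁻¹' closure {x}) := isClosed_closure.preimage (f.fiberι ζ).continuous
  have hFne : (f.fiberι ζ ⁻¹' closure {x}).Nonempty := by
    obtain ⟨z, hz⟩ := (f.range_fiberι ζ).ge (show x₁' ∈ f ⁻¹' {ζ} from hfx₁')
    exact ⟨z, show f.fiberι ζ z ∈ closure {x} by rw [hz]; exact hx₁'⟩
  obtain ⟨z, hz, hzc⟩ := hFc.exists_closed_singleton hFne
  haveI : IsClosedImmersion (F.fromSpecResidueField z) := isClosed_singleton_iff_isClosedImmersion.mp hzc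
  haveI : LocallyOfFiniteType (f.fiberToSpecResidueField ζ) :=
    MorphismProperty.pullback_snd _ _ ‹LocallyOfFiniteType f›
  obtain ⟨φ, hφ⟩ := Spec.map_surjective (F.fromSpecResidueField z ≫ f.fiberToSpecResidueField ζ)
  have hφfin : φ.hom.Finite := by
    haveI : LocallyOfFiniteType (Spec.map φ) := by rw [hφ]; infer_instance
    have hft : φ.hom.FiniteType := (HasRingHomProperty.Spec_iff (P := @LocallyOfFiniteType)).1 ‹_›
    letI := φ.hom.toAlgebra
    haveI : Algebra.FiniteType (Y.residueField ζ) (F.residueField z) := hft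
    exact finite_of_finite_type_of_isJacobsonRing (Y.residueField ζ) (F.residueField z)
  let a : Spec (F.residueField z) ⟶ X := F.fromSpecResidueField z ≫ f.fiberι ζ
  have ha : a ≫ f = Spec.map φ ≫ Y.fromSpecResidueField ζ := by
    rw [hφ, Category.assoc, Category.assoc, Scheme.Hom.fiber_fac]
  have hapt : ∀ w, a w ∈ closure {x} := fun w => by
    show f.fiberι ζ (F.fromSpecResidueField z w) ∈ closure {x}
    rw [Scheme.fromSpecResidueField_apply]; exact hz
  obtain ⟨V, hV, hmV, hN, hmmax⟩ := exists_nagata_affine hS q hmlc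
  obtain ⟨C₀, h₀, c₀, ε₀, hint₀, hnoe₀, hlft₀, hcpt₀, hnorm₀, hc₀, hd₀, hhc₀, -, hεh₀, hεgen₀, hεiso₀⟩ :=
    exists_curve hV hN (hqm.mem_open V.2 hmV) hmV hqm (fun e => hmE (e ▸ ⟨x₁', hx₁', hfx₁'⟩)) hmmax himm
      (F.residueField z) φ hφfin (closure {m}) isClosed_closure
      (fun h => hmE (by
        have := (specializes_iff_mem_closure.2 h).antisymm hqm
        exact this.eq ▸ ⟨x₁', hx₁', hfx₁'⟩))
      (subset_closure rfl)
  let η : C₀ := ε₀ (closedPoint _)
  let ψ : Spec (C₀.presheaf.stalk η) ⟶ X := Spec.map (inv (Scheme.stalkClosedPointTo ε₀)) ≫ a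
  have hψ : ψ ≫ f = C₀.fromSpecStalk η ≫ h₀ := by
    rw [Category.assoc, ha, ← hεh₀]
    refine (congrArg (fun e => Spec.map (inv (Scheme.stalkClosedPointTo ε₀)) ≫ e ≫ h₀)
      (Scheme.Spec_stalkClosedPointTo_fromSpecStalk ε₀).symm).trans ?_
    rw [Category.assoc, ← Spec.map_comp_assoc, IsIso.hom_inv_id, Spec.map_id, Category.id_comp]
  obtain ⟨U₀, hηU₀, v, hv, hvf⟩ := spread_out_of_isGermInjective' h₀ f ψ hψ
  have hηc : η ≠ c₀ := fun e => by
    have h1 : h₀ η = ζ := by
      show (ε₀ ≫ h₀) (closedPoint _) = ζ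
      rw [hεh₀, Scheme.Hom.comp_apply, Scheme.fromSpecResidueField_apply]
    exact hmE (by rw [← hhc₀, ← e, h1]; exact ⟨x₁', hx₁', hfx₁'⟩)
  have hgen : ∀ w : C₀, w ⤳ c₀ → w = η ∨ w = c₀ := fun w hw => by
    obtain ⟨P, hP⟩ := (Scheme.range_fromSpecStalk (X := C₀) (x := c₀)).ge hw
    haveI : Ring.KrullDimLE 1 (C₀.presheaf.stalk c₀) := Ring.krullDimLE_iff.2 hd₀.le
    by_cases hP0 : P.asIdeal = ⊥
    · left
      obtain ⟨Q, hQ⟩ := (Scheme.range_fromSpecStalk (X := C₀) (x := c₀)).ge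
        (hεgen₀.specializes (Set.mem_univ c₀))
      refine ((?_ : w ⤳ η).antisymm (hεgen₀.specializes trivial)).eq
      rw [← hP, show η = C₀.fromSpecStalk c₀ Q from hQ.symm]
      exact ((PrimeSpectrum.le_iff_specializes P Q).1 (by
        show P.asIdeal ≤ Q.asIdeal; rw [hP0]; exact bot_le)).map (C₀.fromSpecStalk c₀).continuous
    · right
      rw [← hP, show P = closedPoint _ from PrimeSpectrum.ext (IsLocalRing.eq_maximalIdeal (Ideal.IsPrime.isMaximal_of_ne_bot P.2 hP0)),
        Scheme.fromSpecStalk_closedPoint]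
  haveI : IsNoetherian C₀ := ⟨⟩
  obtain ⟨O, hcO, hOB⟩ := exists_open_inter_eq_singleton hc₀ hgen
    (B := ((U₀ : Set C₀) ∩ {c₀}ᶜ)ᶜ) (U₀.2.inter hc₀.isOpen_compl).isClosed_compl
    (fun h => h ⟨hηU₀, hηc⟩) (fun h => h.2 rfl)
  -- the curve
  haveI : Nonempty O.toScheme := ⟨⟨c₀, hcO⟩⟩
  haveI : IsIntegral O.toScheme := isIntegral_of_isOpenImmersion O.ι
  haveI : CompactSpace O.toScheme :=
    isCompact_iff_compactSpace.mp (NoetherianSpace.isCompact (O : Set C₀))
  let c : O.toScheme := ⟨c₀, hcO⟩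
  have hc : IsClosed ({c} : Set O.toScheme) := by
    have : ({c} : Set O.toScheme) = O.ι ⁻¹' {c₀} := by
      ext y; exact ⟨fun e => by rw [e]; rfl, fun e => Subtype.ext e⟩
    rw [this]; exact hc₀.preimage O.ι.continuous
  let U : O.toScheme.Opens := ⟨{c}ᶜ, hc.isOpen_compl⟩
  have hUsub : Set.range (U.ι ≫ O.ι) ⊆ Set.range U₀.ι := by
    rw [Scheme.Opens.range_ι]
    rintro _ ⟨y, rfl⟩
    by_contra hy
    have h1 : O.ι (U.ι y) ∈ (O : Set C₀) ∩ ((U₀ : Set C₀) ∩ {c₀}ᶜ)ᶜ :=
      ⟨(U.ι y).2, fun h => hy h.1⟩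
    rw [hOB] at h1
    exact y.2 (Subtype.ext h1 : U.ι y = c)
  let j := IsOpenImmersion.lift U₀.ι (U.ι ≫ O.ι) hUsub
  have hj : j ≫ U₀.ι = U.ι ≫ O.ι := IsOpenImmersion.lift_fac _ _ _
  haveI : IsLocallyNoetherian O.toScheme := LocallyOfFiniteType.isLocallyNoetherian O.ι
  have hnorm : ∀ w : O.toScheme, IsIntegrallyClosed (O.toScheme.presheaf.stalk w) := fun w =>
    haveI := hnorm₀ (O.ι w)
    IsIntegrallyClosed.of_equiv (asIso (O.ι.stalkMap w)).commRingCatIsoToRingEquiv
  have hd : ringKrullDim (O.toScheme.presheaf.stalk c) = 1 :=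
    (ringKrullDim_eq_of_ringEquiv (asIso (O.ι.stalkMap c)).commRingCatIsoToRingEquiv).symm.trans hd₀
  obtain ⟨k, hk, hkgen⟩ := exists_lift_punctured c hd U rfl
  obtain ⟨l, hl, hlk⟩ := H O.toScheme ((O.ι ≫ h₀) ≫ q) hnorm c hc hd U rfl (j ≫ v) (O.ι ≫ h₀) rfl
    (by rw [Category.assoc, hvf, reassoc_of% hj]) k hk
  -- the limit of `x₁`
  let K := Spec (CommRingCat.of (FractionRing (O.toScheme.presheaf.stalk c)))
  let o : K := closedPoint _
  have hgenO : O.ι (genericPoint O.toScheme) = η := by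
    have hηO : η ∈ O := (hεgen₀.specializes (Set.mem_univ c₀)).mem_open O.2 hcO
    let w : O.toScheme := ⟨η, hηO⟩
    have h1 : O.ι (genericPoint O.toScheme) ⤳ η :=
      (genericPoint_specializes (α := ↥O.toScheme) w).map O.ι.continuous
    exact (h1.antisymm (hεgen₀.specializes (Set.mem_univ _))).eq
  have hx₁ : (k ≫ j ≫ v) o ∈ closure {x} := by
    have h1 : U₀.ι (j (k o)) = η := by
      rw [← Scheme.Hom.comp_apply, hj, Scheme.Hom.comp_apply, hkgen, hgenO]
    have h2 : j (k o) = ⟨η, hηU₀⟩ := U₀.ι.isOpenEmbedding.injective h1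
    have h3 : ψ (closedPoint (C₀.presheaf.stalk η)) = v ⟨η, hηU₀⟩ := by
      rw [hv, Scheme.Hom.comp_apply]
      congr 1
      apply U₀.ι.isOpenEmbedding.injective
      rw [← Scheme.Hom.comp_apply, Scheme.Opens.fromSpecStalkOfMem_ι, Scheme.fromSpecStalk_closedPoint]
      rfl
    show v (j (k o)) ∈ _
    rw [h2, ← h3]
    exact hapt _
  apply hmE
  refine ⟨l (closedPoint _), ?_, ?_⟩
  · have h4 : l (Spec.map (CommRingCat.ofHom (algebraMap (O.toScheme.presheaf.stalk c)
        (FractionRing (O.toScheme.presheaf.stalk c)))) o) ∈ closure {x} := by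
      have := congr($hlk o)
      rw [Scheme.Hom.comp_apply] at this
      rw [show l (Spec.map (CommRingCat.ofHom (algebraMap (O.toScheme.presheaf.stalk c)
        (FractionRing (O.toScheme.presheaf.stalk c)))) o) = (k ≫ j ≫ v) o from this]
      exact hx₁
    exact ((IsLocalRing.specializes_closedPoint _).map l.continuous).mem_closed isClosed_closure h4
  · rw [← Scheme.Hom.comp_apply, hl, Scheme.Hom.comp_apply, Scheme.fromSpecStalk_closedPoint]
    exact hhc₀

include hf in
theorem universallyClosed_of_curveExistence [QuasiCompact f] (H : CurveExistence q f) :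
    UniversallyClosed f := by
  haveI : LocallyOfFiniteType f := by
    subst hf; exact locallyOfFiniteType_of_comp f q
  refine H11Val.universallyClosed_of_affineSpace f fun n => ?_
  let t := 𝔸(ULift.{u} (Fin n); Y) ↘ Y
  haveI : LocallyOfFiniteType t := inferInstance
  let b := pullback.snd f t
  haveI : QuasiCompact b := MorphismProperty.pullback_snd _ _ ‹_›
  haveI : LocallyOfFiniteType b := MorphismProperty.pullback_snd _ _ ‹_›
  refine (isClosedMap_iff_specializingMap b).2 (specializingMap_of_curveExistence hS (b ≫ t ≫ q) (t ≫ q) b rfl ?_)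
  exact CurveExistence.of_isPullback q f (IsPullback.of_hasPullback f t) H

end Groth.Agent.H7Lim.Nagata
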