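import Groth.Agent.H17.NagataNorm
import Groth.Agent.H05EGA4.Points
import Groth.Agent.S0566
import Mathlib.AlgebraicGeometry.FunctionField
import Mathlib.RingTheory.IntegralClosure.IntegrallyClosed

/-!
# Normal curves through an immediate specialization over a Nagata base
-/

set_option autoImplicit false
set_option backward.isDefEq.respectTransparency false
set_option linter.style.haveILetI false

universe u

open AlgebraicGeometry CategoryTheory CategoryTheory.Limits TopologicalSpace IsLocalRing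

namespace Groth.Agent.H7Lim.Nagata

/-- Algebraic form: the integral closure in a field finite over a localization. -/
theorem exists_curve_ring (R : Type u) [CommRing R] (hR : CAlg.IsNagata R)
    (A : Type u) [CommRing A] [Algebra R A] (M : Submonoid R) [IsLocalization M A]
    (L : Type u) [Field L] [Algebra R L] [Algebra A L] [IsScalarTower R A L] [Module.Finite A L]
    (m : Ideal R) [m.IsMaximal] (hne : RingHom.ker (algebraMap R L) ≠ m)
    (hle : RingHom.ker (algebraMap R L) ≤ m)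
    (himm : ∀ P : Ideal R, P.IsPrime → RingHom.ker (algebraMap R L) ≤ P → P ≤ m →
      P = RingHom.ker (algebraMap R L) ∨ P = m) :
    Module.Finite R (integralClosure R L) ∧ IsFractionRing (integralClosure R L) L ∧
      IsIntegrallyClosed (integralClosure R L) ∧ IsNoetherianRing (integralClosure R L) ∧
      ∃ P : Ideal (integralClosure R L), P.IsMaximal ∧
        P.comap (algebraMap R (integralClosure R L)) = m ∧ P ≠ ⊥ ∧
        ∀ Q : Ideal (integralClosure R L), Q.IsPrime → Q ≤ P → Q = ⊥ ∨ Q = P := by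
  haveI := hR.1
  haveI : Algebra.EssFiniteType R A := Algebra.EssFiniteType.of_isLocalization A M
  haveI : Algebra.EssFiniteType R L := Algebra.EssFiniteType.comp R A L
  haveI hfin : Module.Finite R (integralClosure R L) :=
    H17.NagataNorm.finite_integralClosure_field R hR L
  let R' := integralClosure R L
  haveI hfrac : IsFractionRing R' L := by
    refine IsFractionRing.of_field R' L fun l => ?_
    obtain ⟨⟨s, hs⟩, hsl⟩ := IsIntegral.exists_multiple_integral_of_isLocalization (R := R) (Rₘ := A)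
      (S := L) M l (IsIntegral.of_finite A l)
    have hs0 : algebraMap R L s ≠ 0 := by
      rw [IsScalarTower.algebraMap_apply R A L]
      exact ((IsLocalization.map_units A ⟨s, hs⟩).map (algebraMap A L)).ne_zero
    refine ⟨⟨s • l, hsl⟩, ⟨algebraMap R L s, isIntegral_algebraMap⟩, ?_⟩
    show l = (s • l) / algebraMap R L s
    rw [Algebra.smul_def, mul_div_cancel_left₀ _ hs0]
  haveI hic : IsIntegrallyClosed R' := by
    refine (isIntegrallyClosed_iff L).2 fun {x} hx => ?_
    have : IsIntegral R x := isIntegral_trans x hx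
    exact ⟨⟨x, this⟩, rfl⟩
  haveI hnoeth : IsNoetherianRing R' := IsNoetherianRing.of_finite R R'
  refine ⟨hfin, hfrac, hic, hnoeth, ?_⟩
  have hker : RingHom.ker (algebraMap R R') = RingHom.ker (algebraMap R L) := by
    ext r
    simp only [RingHom.mem_ker]
    exact ⟨fun h => by rw [IsScalarTower.algebraMap_apply R R' L, h, map_zero],
      fun h => Subtype.ext (by simpa using h)⟩
  obtain ⟨P, -, hP, hPm⟩ := Ideal.exists_ideal_over_prime_of_isIntegral m (⊥ : Ideal R') (by
    rwa [← RingHom.ker_eq_comap_bot, hker])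
  haveI := hP
  have hPmax : P.IsMaximal := Ideal.isMaximal_of_isIntegral_of_isMaximal_comap P (by rw [hPm]; infer_instance)
  refine ⟨P, hPmax, hPm, fun h => hne (by rw [← hker, RingHom.ker_eq_comap_bot, ← h, hPm]), fun Q hQ hQP => ?_⟩
  haveI := hQ
  have h1 : RingHom.ker (algebraMap R L) ≤ Q.comap (algebraMap R R') := by
    rw [← hker, RingHom.ker_eq_comap_bot]
    exact Ideal.comap_mono bot_le
  have h2 : Q.comap (algebraMap R R') ≤ m := hPm ▸ Ideal.comap_mono hQP
  rcases himm _ inferInstance h1 h2 with h | h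
  · left
    by_contra hQ0
    have : (⊥ : Ideal R') < Q := bot_lt_iff_ne_bot.2 hQ0
    obtain ⟨x, hxQ, hx0⟩ := SetLike.exists_of_lt this
    have := Ideal.IsIntegral.comap_lt_comap (R := R) this
    rw [← RingHom.ker_eq_comap_bot, hker, h] at this
    exact lt_irrefl _ this
  · right
    by_contra hQP'
    have := Ideal.IsIntegral.comap_lt_comap (R := R) (lt_of_le_of_ne hQP hQP')
    rw [hPm, h] at this
    exact lt_irrefl _ this

/-- A point which is closed, not generic, and only specialization of the generic point has an open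
neighbourhood meeting a given closed set, not containing the generic point, only in itself. -/
theorem exists_open_inter_eq_singleton {X : Scheme.{u}} [IsNoetherian X] {η c : X}
    (hc : IsClosed ({c} : Set X)) (h : ∀ z : X, z ⤳ c → z = η ∨ z = c) {B : Set X} (hB : IsClosed B)
    (hη : η ∉ B) (hcB : c ∈ B) : ∃ O : X.Opens, c ∈ O ∧ (O : Set X) ∩ B = {c} := by
  classical
  obtain ⟨T, hT, hTc, hTi, rfl⟩ := NoetherianSpace.exists_finite_set_isClosed_irreducible hB
  let T' := {Z ∈ T | c ∉ Z}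
  have hT' : IsClosed (⋃₀ T') := Set.sUnion_eq_biUnion ▸
    (hT.subset (Set.sep_subset _ _)).isClosed_biUnion fun Z hZ => hTc Z hZ.1
  refine ⟨⟨(⋃₀ T')ᶜ, hT'.isOpen_compl⟩, fun ⟨Z, hZ, hcZ⟩ => hZ.2 hcZ, ?_⟩
  refine Set.Subset.antisymm (fun z ⟨hz, Z, hZ, hzZ⟩ => ?_) (Set.singleton_subset_iff.2
    ⟨fun ⟨Z, hZ, hcZ⟩ => hZ.2 hcZ, hcB⟩)
  by_cases hcZ : c ∈ Z
  · obtain ⟨g, hg⟩ := QuasiSober.sober (hTi Z hZ) (hTc Z hZ)
    rcases h g (hg.specializes hcZ) with e | e
    · exact absurd ⟨Z, hZ, e ▸ hg.mem⟩ hη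
    · subst e
      have : z ∈ closure {g} := hg.def.symm ▸ hzZ
      rwa [hc.closure_eq] at this
  · exact absurd ⟨Z, ⟨hZ, hcZ⟩, hzZ⟩ hz

theorem stalk_isIntegrallyClosed {T : Type u} [CommRing T] [IsDomain T] [IsIntegrallyClosed T]
    (x : Spec (CommRingCat.of T)) :
    IsIntegrallyClosed ((Spec (CommRingCat.of T)).presheaf.stalk x) := by
  show IsIntegrallyClosed ((Spec.structureSheaf T).presheaf.stalk (x : PrimeSpectrum T))
  exact isIntegrallyClosed_of_isLocalization _ (PrimeSpectrum.asIdeal x).primeCompl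
    (PrimeSpectrum.asIdeal x).primeCompl_le_nonZeroDivisors

theorem stalk_ringKrullDim {T : Type u} [CommRing T] (x : Spec (CommRingCat.of T)) :
    ringKrullDim ((Spec (CommRingCat.of T)).presheaf.stalk x) = (PrimeSpectrum.asIdeal x).height := by
  show ringKrullDim ((Spec.structureSheaf T).presheaf.stalk (x : PrimeSpectrum T)) = _
  exact IsLocalization.AtPrime.ringKrullDim_eq_height _ _

theorem isIso_stalkClosedPointTo {T : Type u} [CommRing T] [IsDomain T] (L : Type u) [Field L] [Algebra T L]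
    [IsFractionRing T L] :
    IsIso (Scheme.stalkClosedPointTo (Spec.map (CommRingCat.ofHom (algebraMap T L)))) := by
  let x : Spec (CommRingCat.of T) := Spec.map (CommRingCat.ofHom (algebraMap T L)) (closedPoint L)
  let σ := (Scheme.stalkClosedPointTo (Spec.map (CommRingCat.ofHom (algebraMap T L)))).hom
  let g : T →+* (Spec (CommRingCat.of T)).presheaf.stalk x :=
    ((Scheme.ΓSpecIso (CommRingCat.of T)).inv ≫ (Spec (CommRingCat.of T)).presheaf.germ ⊤ x trivial).hom
  have hσ : ∀ r, σ (g r) = algebraMap T L r := by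
    intro r
    have h0 : (Spec (CommRingCat.of T)).presheaf.germ ⊤ x trivial ≫
        Scheme.stalkClosedPointTo (Spec.map (CommRingCat.ofHom (algebraMap T L))) =
        (Scheme.ΓSpecIso (CommRingCat.of T)).hom ≫ CommRingCat.ofHom (algebraMap T L) :=
      Scheme.germ_stalkClosedPointTo_Spec _
    have := congr((Scheme.ΓSpecIso (CommRingCat.of T)).inv ≫ $h0)
    rw [Iso.inv_hom_id_assoc] at this
    exact congr($this r)
  haveI : IsLocalHom σ := inferInstance
  haveI : IsField ((Spec (CommRingCat.of T)).presheaf.stalk x) := by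
    haveI : IrreducibleSpace (Spec (CommRingCat.of T)) := inferInstance
    have hx : genericPoint (Spec (CommRingCat.of T)) = x := by
      rw [genericPoint_eq_bot_of_affine]
      refine PrimeSpectrum.ext ?_
      show (⊥ : Ideal T) = (closedPoint L).asIdeal.comap (algebraMap T L)
      rw [show (closedPoint L).asIdeal = ⊥ from IsLocalRing.maximalIdeal_eq_bot .., ← RingHom.ker_eq_comap_bot,
        (RingHom.injective_iff_ker_eq_bot _).1 (IsFractionRing.injective T L)]
    rw [← hx]
    exact Field.toIsField ((Spec (CommRingCat.of T)).functionField)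
  refine (ConcreteCategory.isIso_iff_bijective _).2 ⟨?_, fun l => ?_⟩
  · letI := this.toField
    exact σ.injective
  · obtain ⟨a, b, hb, rfl⟩ := IsFractionRing.div_surjective (A := T) l
    have hub : IsUnit (g b) := (isUnit_map_iff σ _).1 (by
      rw [hσ]; exact isUnit_iff_ne_zero.2 (IsFractionRing.to_map_ne_zero_of_mem_nonZeroDivisors hb))
    obtain ⟨w, hw⟩ := hub
    refine ⟨g a * ↑w⁻¹, ?_⟩
    show σ (g a * ↑w⁻¹) = _
    rw [map_mul, hσ, eq_div_iff (IsFractionRing.to_map_ne_zero_of_mem_nonZeroDivisors hb), ← hσ b, ← hw,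
      mul_assoc, ← map_mul, Units.inv_mul, map_one, mul_one]

/-- The curve. -/
theorem exists_curve {Z : Scheme.{u}} {V : Z.Opens} (hV : IsAffineOpen V) (hN : CAlg.IsNagata Γ(Z, V))
    {q m : Z} (hqV : q ∈ V) (hmV : m ∈ V) (hqm : q ⤳ m) (hne : q ≠ m)
    (hm : ∀ z ∈ V, m ⤳ z → z = m) (himm : ∀ z : Z, q ⤳ z → z ⤳ m → z = q ∨ z = m)
    (L : Type u) [Field L] (φ : Z.residueField q ⟶ CommRingCat.of L) (hφ : φ.hom.Finite)
    (B : Set Z) (hB : IsClosed B) (hqB : q ∉ B) (hmB : m ∈ B) :
    ∃ (C : Scheme.{u}) (h : C ⟶ Z) (c : C) (ε : Spec (CommRingCat.of L) ⟶ C),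
      IsIntegral C ∧ IsLocallyNoetherian C ∧ LocallyOfFiniteType h ∧ CompactSpace C ∧
      (∀ x : C, IsIntegrallyClosed (C.presheaf.stalk x)) ∧ IsClosed ({c} : Set C) ∧
      ringKrullDim (C.presheaf.stalk c) = 1 ∧ h c = m ∧ h ⁻¹' B = {c} ∧
      ε ≫ h = Spec.map φ ≫ Z.fromSpecResidueField q ∧
      IsGenericPoint (ε (closedPoint L)) (Set.univ : Set C) ∧ IsIso (Scheme.stalkClosedPointTo ε) := by
  classical
  let R := Γ(Z, V)
  let A := Z.presheaf.stalk q
  letI : Algebra R A := (Z.presheaf.germ V q hqV).hom.toAlgebra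
  haveI : IsLocalization.AtPrime A (hV.primeIdealOf ⟨q, hqV⟩).asIdeal := hV.isLocalization_stalk ⟨q, hqV⟩
  letI : Algebra A L := (Z.residue q ≫ φ).hom.toAlgebra
  let ψ : Γ(Z, V) ⟶ CommRingCat.of L := Z.presheaf.germ V q hqV ≫ Z.residue q ≫ φ
  letI : Algebra R L := ψ.hom.toAlgebra
  haveI : IsScalarTower R A L := IsScalarTower.of_algebraMap_eq fun _ => rfl
  haveI : Module.Finite A L :=
    RingHom.finite_algebraMap.1 (hφ.comp (RingHom.Finite.of_surjective _ (Z.residue_surjective q)))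
  have hψ : Spec.map ψ ≫ hV.fromSpec = Spec.map φ ≫ Z.fromSpecResidueField q := by
    simp only [ψ, Spec.map_comp, Category.assoc, Scheme.fromSpecResidueField]
    congr 2
    exact hV.fromSpecStalk_eq_fromSpecStalk hqV
  haveI : IsNoetherianRing R := hN.1
  haveI := hV.isOpenImmersion_fromSpec
  have emb := hV.fromSpec.isOpenEmbedding
  let q₀ : Spec Γ(Z, V) := Spec.map ψ (closedPoint L)
  have hq₀ : hV.fromSpec q₀ = q := by
    show (Spec.map ψ ≫ hV.fromSpec) (closedPoint L) = q
    rw [hψ, Scheme.Hom.comp_apply, Scheme.fromSpecResidueField_apply]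
  have hq₀' : q₀.asIdeal = RingHom.ker (algebraMap R L) := by
    show (closedPoint L).asIdeal.comap ψ.hom = _
    rw [show (closedPoint L).asIdeal = ⊥ from IsLocalRing.maximalIdeal_eq_bot ..]
    exact (RingHom.ker_eq_comap_bot _).symm
  let m₀ : Spec Γ(Z, V) := hV.primeIdealOf ⟨m, hmV⟩
  have hm₀ : hV.fromSpec m₀ = m := hV.fromSpec_primeIdealOf _
  have hspec : ∀ a b : Spec Γ(Z, V), a.asIdeal ≤ b.asIdeal ↔ hV.fromSpec a ⤳ hV.fromSpec b := fun a b =>
    (PrimeSpectrum.le_iff_specializes a b).trans emb.isEmbedding.specializes_iff.symm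
  haveI : m₀.asIdeal.IsMaximal := by
    obtain ⟨M, hM, hle⟩ := Ideal.exists_le_maximal m₀.asIdeal m₀.2.ne_top
    let M₀ : Spec Γ(Z, V) := ⟨M, hM.isPrime⟩
    have h1 := (hspec m₀ M₀).1 hle
    rw [hm₀] at h1
    have : M₀ = m₀ := emb.injective (by
      rw [hm₀]; exact hm _ (hV.range_fromSpec.le ⟨M₀, rfl⟩) h1)
    rw [← this]; exact hM
  obtain ⟨hfin, hfrac, hic, hnoeth, P, hPmax, hPm, hP0, hPimm⟩ := exists_curve_ring R hN A
    (hV.primeIdealOf ⟨q, hqV⟩).asIdeal.primeCompl L m₀.asIdeal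
    (fun e => hne (by rw [← hq₀, ← hm₀, PrimeSpectrum.ext (hq₀'.trans e)]))
    (by rw [← hq₀', hspec, hq₀, hm₀]; exact hqm)
    (fun Q hQ h1 h2 => by
      let Q₀ : Spec Γ(Z, V) := ⟨Q, hQ⟩
      have e1 := (hspec q₀ Q₀).1 (hq₀'.trans_le h1)
      have e2 := (hspec Q₀ m₀).1 h2
      rw [hq₀] at e1
      rw [hm₀] at e2
      rcases himm _ e1 e2 with e | e
      · left; rw [← hq₀']; exact congrArg PrimeSpectrum.asIdeal (emb.injective (e.trans hq₀.symm) : Q₀ = q₀)
      · right; exact congrArg PrimeSpectrum.asIdeal (emb.injective (e.trans hm₀.symm) : Q₀ = m₀))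
  let R' := integralClosure R L
  let C₀ := Spec (CommRingCat.of R')
  let h₀ : C₀ ⟶ Z := Spec.map (CommRingCat.ofHom (algebraMap R R')) ≫ hV.fromSpec
  haveI : LocallyOfFiniteType (Spec.map (CommRingCat.ofHom (algebraMap R R'))) :=
    (HasRingHomProperty.Spec_iff (P := @LocallyOfFiniteType)).2
      (RingHom.finiteType_algebraMap.2 inferInstance)
  haveI : LocallyOfFiniteType h₀ := inferInstanceAs (LocallyOfFiniteType (_ ≫ _))
  haveI : IsLocallyNoetherian C₀ := isLocallyNoetherian_Spec.mpr hnoeth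
  haveI : IsNoetherian C₀ := ⟨⟩
  let c₀ : C₀ := ⟨P, hPmax.isPrime⟩
  have hc₀ : IsClosed ({c₀} : Set C₀) :=
    (PrimeSpectrum.isClosed_singleton_iff_isMaximal c₀).2 hPmax
  have hhc : h₀ c₀ = m := by
    rw [← hm₀]
    show hV.fromSpec _ = _
    exact congrArg _ (PrimeSpectrum.ext hPm)
  let η₀ : C₀ := ⟨⊥, Ideal.isPrime_bot⟩
  have hη : h₀ η₀ = q := by
    rw [← hq₀]
    show hV.fromSpec _ = _
    refine congrArg _ (PrimeSpectrum.ext ?_)
    show Ideal.comap (algebraMap R R') ⊥ = _
    rw [hq₀', ← RingHom.ker_eq_comap_bot]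
    ext r
    simp only [RingHom.mem_ker]
    exact ⟨fun h => by rw [IsScalarTower.algebraMap_apply R R' L, h, map_zero],
      fun h => Subtype.ext (by simpa using h)⟩
  have hgen : ∀ z : C₀, z ⤳ c₀ → z = η₀ ∨ z = c₀ := fun z hz => by
    rcases hPimm z.asIdeal z.2 ((PrimeSpectrum.le_iff_specializes _ _).2 hz) with e | e
    · exact Or.inl (PrimeSpectrum.ext e)
    · exact Or.inr (PrimeSpectrum.ext e)
  obtain ⟨O, hcO, hOB⟩ := exists_open_inter_eq_singleton hc₀ hgen (hB.preimage h₀.continuous)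
    (show η₀ ∉ h₀ ⁻¹' B by rw [Set.mem_preimage, hη]; exact hqB)
    (show c₀ ∈ h₀ ⁻¹' B by rw [Set.mem_preimage, hhc]; exact hmB)
  haveI : Nonempty O.toScheme := ⟨⟨c₀, hcO⟩⟩
  haveI : IsIntegral O.toScheme := isIntegral_of_isOpenImmersion O.ι
  haveI : IsLocallyNoetherian O.toScheme := LocallyOfFiniteType.isLocallyNoetherian O.ι
  have hη₀ : η₀ ∈ O := ((PrimeSpectrum.le_iff_specializes η₀ c₀).1 bot_le).mem_open O.2 hcO
  let ε₀ : Spec (CommRingCat.of L) ⟶ C₀ := Spec.map (CommRingCat.ofHom (algebraMap R' L))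
  have hε₀ : ∀ z, ε₀ z = η₀ := fun z => PrimeSpectrum.ext (by
    show z.asIdeal.comap (algebraMap R' L) = ⊥
    rw [Ideal.eq_bot_of_prime z.asIdeal, ← RingHom.ker_eq_comap_bot,
      (RingHom.injective_iff_ker_eq_bot _).1 Subtype.val_injective])
  have hrange : Set.range ε₀ ⊆ Set.range O.ι := by
    rw [Scheme.Opens.range_ι]
    rintro _ ⟨z, rfl⟩
    rw [hε₀]; exact hη₀
  let ε := IsOpenImmersion.lift O.ι ε₀ hrange
  have hε : ε ≫ O.ι = ε₀ := IsOpenImmersion.lift_fac _ _ _
  haveI : CompactSpace O.toScheme :=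
    isCompact_iff_compactSpace.mp (NoetherianSpace.isCompact (O : Set C₀))
  haveI : IsNoetherian O.toScheme := ⟨⟩
  refine ⟨O.toScheme, O.ι ≫ h₀, ⟨c₀, hcO⟩, ε, inferInstance, inferInstance, inferInstance,
    inferInstance, fun x => ?_, ?_, ?_, hhc, ?_, ?_, ?_, ?_⟩
  · haveI : IsIntegrallyClosed (C₀.presheaf.stalk (O.ι x)) := stalk_isIntegrallyClosed _
    exact IsIntegrallyClosed.of_equiv (asIso (O.ι.stalkMap x)).commRingCatIsoToRingEquiv
  · have : ({⟨c₀, hcO⟩} : Set O.toScheme) = O.ι ⁻¹' {c₀} := by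
      ext y; exact ⟨fun e => by rw [e]; rfl, fun e => Subtype.ext e⟩
    rw [this]; exact hc₀.preimage O.ι.continuous
  · have e := ringKrullDim_eq_of_ringEquiv (asIso (O.ι.stalkMap ⟨c₀, hcO⟩)).commRingCatIsoToRingEquiv
    rw [← e]
    show ringKrullDim (C₀.presheaf.stalk c₀) = 1
    rw [stalk_ringKrullDim]
    show (P.height : WithBot ℕ∞) = ((1 : ℕ∞) : WithBot ℕ∞)
    refine congrArg _ (le_antisymm ?_ ?_)
    · refine (Ideal.height_le_iff (n := 1)).2 fun Q hQ hQP => ?_
      rcases hPimm Q hQ hQP.le with e | e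
      · rw [e, Ideal.height_bot]; exact_mod_cast Nat.zero_lt_one
      · exact absurd e hQP.ne
    · have := Ideal.height_add_one_le_of_lt_of_isPrime (I := (⊥ : Ideal R')) (J := P) (bot_lt_iff_ne_bot.2 hP0)
      rwa [Ideal.height_bot, zero_add] at this
  · ext y
    constructor
    · intro hy
      have : O.ι y ∈ (O : Set C₀) ∩ h₀ ⁻¹' B := ⟨y.2, hy⟩
      rw [hOB] at this
      exact Subtype.ext this
    · rintro rfl
      show h₀ c₀ ∈ B
      rw [hhc]; exact hmB
  · rw [reassoc_of% hε, ← hψ]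
    show Spec.map (CommRingCat.ofHom (algebraMap R' L)) ≫ Spec.map (CommRingCat.ofHom (algebraMap R R')) ≫ _ = _
    rw [← Spec.map_comp_assoc]
    congr 2
  · rw [isGenericPoint_iff_specializes]
    exact fun y => ⟨fun _ => trivial, fun _ => O.ι.isOpenEmbedding.isEmbedding.specializes_iff.1 (by
      rw [← Scheme.Hom.comp_apply, hε, hε₀]
      exact (PrimeSpectrum.le_iff_specializes η₀ _).1 bot_le)⟩
  · haveI : IsIso (O.ι.stalkMap (ε (closedPoint L))) := inferInstance
    have key : IsIso (Scheme.stalkClosedPointTo ε₀) := isIso_stalkClosedPointTo L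
    have e : Scheme.stalkClosedPointTo (ε ≫ O.ι) = O.ι.stalkMap _ ≫ Scheme.stalkClosedPointTo ε :=
      Scheme.stalkClosedPointTo_comp ε O.ι
    haveI : IsIso (O.ι.stalkMap (ε (closedPoint L)) ≫ Scheme.stalkClosedPointTo ε) := by
      rw [← e]
      have : ∀ g, g = ε₀ → IsIso (Scheme.stalkClosedPointTo g) := by rintro g rfl; exact key
      exact this _ hε
    exact IsIso.of_isIso_comp_left (O.ι.stalkMap (ε (closedPoint L))) _

end Groth.Agent.H7Lim.Nagata
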